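import Groth.Agent.Lib.Smoothing26.Trunc
import Groth.Agent.Lib.CotT.ExalTriv
import Mathlib

/-!
# Rigid singular fibres cannot be smoothed
-/

noncomputable section

universe u

namespace GrothLib.Smoothing26

open Ideal

/-- If `B[1/t]` is formally smooth over `A`, then `t^N` kills the obstruction to splitting
`I/I² → Ω_P ⊗ B`, expressed on representatives. -/
theorem exists_scaling {A B : Type u} [CommRing A] [CommRing B] [Algebra A B] {m : ℕ}
    (φ : MvPolynomial (Fin m) A →ₐ[A] B) (hφ : Function.Surjective φ) (hfg : (RingHom.ker φ).FG) (t : A)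
    (hsm : Algebra.FormallySmooth A (Localization.Away (algebraMap A B t))) :
    ∃ (N : ℕ) (K : Fin m → MvPolynomial (Fin m) A), (∀ i, K i ∈ RingHom.ker φ) ∧
      ∀ g ∈ RingHom.ker φ,
        MvPolynomial.C (t ^ N) * g - ∑ i, K i * MvPolynomial.pderiv i g ∈ RingHom.ker φ ^ 2 := by
  classical
  let I := RingHom.ker φ
  let S := MvPolynomial (Fin m) A ⧸ I ^ 2
  let tS : S := algebraMap A S t
  let St := Localization.Away tS
  let Bt := Localization.Away (algebraMap A B t)
  let φS : S →ₐ[A] B := Ideal.Quotient.liftₐ _ φ fun a ha => Ideal.pow_le_self two_ne_zero ha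
  have htS : φS tS = algebraMap A B t := φS.commutes t
  let f : S →ₐ[A] Bt := (IsScalarTower.toAlgHom A B Bt).comp φS
  have hu : ∀ y : Submonoid.powers tS, IsUnit (f y) := by
    rintro ⟨_, n, rfl⟩
    show IsUnit (algebraMap B Bt (φS (tS ^ n)))
    rw [map_pow, htS, map_pow]
    exact (IsLocalization.Away.algebraMap_isUnit _).pow n
  let π : St →ₐ[A] Bt := IsLocalization.liftAlgHom (M := Submonoid.powers tS) (f := f) hu
  have hπ : ∀ s : S, π (algebraMap S St s) = algebraMap B Bt (φS s) :=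
    fun s => IsLocalization.lift_eq hu s
  have hπsurj : Function.Surjective π := fun z => by
    obtain ⟨b, ⟨_, n, rfl⟩, rfl⟩ := IsLocalization.exists_mk'_eq (Submonoid.powers (algebraMap A B t)) z
    obtain ⟨p, rfl⟩ := hφ b
    refine ⟨IsLocalization.mk' St (Ideal.Quotient.mk _ p : S) (⟨tS ^ n, n, rfl⟩ : Submonoid.powers tS), ?_⟩
    refine IsLocalization.eq_mk'_iff_mul_eq.2 ?_
    have h := congrArg π (IsLocalization.mk'_spec St (Ideal.Quotient.mk _ p : S)
      (⟨tS ^ n, n, rfl⟩ : Submonoid.powers tS))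
    rw [map_mul, hπ, hπ, map_pow, htS] at h
    exact h
  -- elements of the kernel come from `I`
  have hd : ∀ d : St, π d = 0 → ∃ (e : ℕ) (k : MvPolynomial (Fin m) A), k ∈ I ∧
      algebraMap S St (tS ^ e) * d = algebraMap S St (Ideal.Quotient.mk _ k) := fun d hd => by
    obtain ⟨s, ⟨_, n, rfl⟩, rfl⟩ := IsLocalization.exists_mk'_eq (Submonoid.powers tS) d
    obtain ⟨p, rfl⟩ := Ideal.Quotient.mk_surjective s
    have h1 : algebraMap B Bt (φ p) = 0 := by
      have h2 := congrArg π (IsLocalization.mk'_spec St (Ideal.Quotient.mk _ p : S)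
        (⟨tS ^ n, n, rfl⟩ : Submonoid.powers tS))
      rw [map_mul, hd, zero_mul, hπ] at h2
      exact h2.symm
    obtain ⟨⟨_, e, rfl⟩, he⟩ :=
      (IsLocalization.map_eq_zero_iff (Submonoid.powers (algebraMap A B t)) Bt _).1 h1
    refine ⟨e + n, MvPolynomial.C (t ^ e) * p, ?_, ?_⟩
    · show φ _ = 0
      rw [map_mul, ← MvPolynomial.algebraMap_eq, AlgHom.commutes, map_pow]
      exact he
    · have h3 := IsLocalization.mk'_spec St (Ideal.Quotient.mk _ p : S)
        (⟨tS ^ n, n, rfl⟩ : Submonoid.powers tS)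
      rw [pow_add, map_mul, mul_assoc, mul_comm (algebraMap S St (tS ^ n)), h3, ← map_mul]
      congr 1
      rw [map_mul, ← map_pow]
      rfl
  have hker2 : ∀ a b : St, π a = 0 → π b = 0 → a * b = 0 := fun a b ha hb => by
    obtain ⟨e, k, hk, hek⟩ := hd a ha
    obtain ⟨e', k', hk', hek'⟩ := hd b hb
    refine (((IsLocalization.map_units St (⟨tS ^ e, e, rfl⟩ : Submonoid.powers tS)).mul
      (IsLocalization.map_units St (⟨tS ^ e', e', rfl⟩ : Submonoid.powers tS)))).mul_right_eq_zero.1 ?_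
    rw [mul_mul_mul_comm, hek, hek', ← map_mul, ← map_mul,
      Ideal.Quotient.eq_zero_iff_mem.2 (sq I ▸ Ideal.mul_mem_mul hk hk'), map_zero]
  have hnil : IsNilpotent (RingHom.ker π) := ⟨2, by
    refine (pow_two _).trans (eq_bot_iff.2 (Ideal.mul_le.2 ?_))
    exact fun a ha b hb => (Submodule.mem_bot _).2 (hker2 a b ha hb)⟩
  let σ₀ := Algebra.FormallySmooth.liftOfSurjective (AlgHom.id A Bt) π hπsurj hnil
  have hσ₀ : ∀ z, π (σ₀ z) = z := fun z =>
    AlgHom.congr_fun (Algebra.FormallySmooth.comp_liftOfSurjective (AlgHom.id A Bt) π hπsurj hnil) z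
  let im : MvPolynomial (Fin m) A →ₐ[A] St :=
    (IsScalarTower.toAlgHom A S St).comp (Ideal.Quotient.mkₐ A _)
  let σ : MvPolynomial (Fin m) A →ₐ[A] St := σ₀.comp ((IsScalarTower.toAlgHom A B Bt).comp φ)
  let d : Fin m → St := fun i => im (MvPolynomial.X i) - σ (MvPolynomial.X i)
  have hdπ : ∀ i, π (d i) = 0 := fun i => by
    show π (im _ - σ _) = 0
    rw [map_sub, sub_eq_zero]
    exact (hπ _).trans (hσ₀ _).symm
  have hdec : ∀ p, im p = σ p + ∑ i, d i * im (MvPolynomial.pderiv i p) := fun p => by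
    induction p using MvPolynomial.induction_on with
    | C a =>
      simp only [MvPolynomial.pderiv_C, map_zero, mul_zero, Finset.sum_const_zero, add_zero]
      rw [← MvPolynomial.algebraMap_eq, AlgHom.commutes, AlgHom.commutes]
    | add p q hp hq =>
      simp only [map_add, mul_add, Finset.sum_add_distrib]
      rw [hp, hq]; abel
    | mul_X p j hp =>
      have hXj : im (MvPolynomial.X j) = σ (MvPolynomial.X j) + d j := by simp [d]
      have h1 : d j * im p = d j * σ p := by
        rw [hp, mul_add, Finset.mul_sum, Finset.sum_eq_zero fun i _ => by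
          rw [← mul_assoc, hker2 _ _ (hdπ j) (hdπ i), zero_mul], add_zero]
      have h2 : ∀ i, d i * im (MvPolynomial.pderiv i (p * MvPolynomial.X j)) =
          d i * im (MvPolynomial.pderiv i p) * σ (MvPolynomial.X j) + (if i = j then d j * σ p else 0) := by
        intro i
        rw [MvPolynomial.pderiv_mul, map_add, map_mul, map_mul, mul_add, MvPolynomial.pderiv_X, Pi.single_apply]
        congr 1
        · rw [hXj]
          linear_combination im (MvPolynomial.pderiv i p) * hker2 _ _ (hdπ i) (hdπ j)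
        · by_cases hij : i = j
          · subst hij; rw [if_pos rfl, if_pos rfl, map_one, mul_one, h1]
          · rw [if_neg hij, if_neg (fun e => hij e.symm), map_zero, mul_zero, mul_zero]
      rw [Finset.sum_congr rfl fun i _ => h2 i, Finset.sum_add_distrib, Finset.sum_ite_eq',
        if_pos (Finset.mem_univ j), ← Finset.sum_mul, map_mul σ, map_mul im, hXj, mul_add,
        mul_comm (im p) (d j), h1, hp]
      ring
  choose e k hk hek using fun i => hd (d i) (hdπ i)
  let E := ∑ i, e i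
  let K : Fin m → MvPolynomial (Fin m) A := fun i => MvPolynomial.C (t ^ (E - e i)) * k i
  have hC : ∀ a : A, im (MvPolynomial.C a) = algebraMap A St a := fun a => im.commutes a
  have htSt : ∀ n, algebraMap S St (tS ^ n) = algebraMap A St t ^ n := fun n => by
    rw [map_pow, ← IsScalarTower.algebraMap_apply]
  have hK : ∀ i, im (K i) = algebraMap A St t ^ E * d i := fun i => by
    rw [map_mul, hC, map_pow, show im (k i) = algebraMap S St (Ideal.Quotient.mk _ (k i)) from rfl,
      ← hek, htSt, ← mul_assoc, ← pow_add, Nat.sub_add_cancel (Finset.single_le_sum (by simp) (Finset.mem_univ i))]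
  have hg : ∀ g ∈ I, ∃ f : ℕ, MvPolynomial.C (t ^ f) *
      (MvPolynomial.C (t ^ E) * g - ∑ i, K i * MvPolynomial.pderiv i g) ∈ I ^ 2 := fun g hg => by
    have h0 : σ g = 0 := by
      show σ₀ (algebraMap B Bt (φ g)) = 0
      rw [RingHom.mem_ker.1 hg, map_zero, map_zero]
    have h1 : algebraMap S St
        (Ideal.Quotient.mk _ (MvPolynomial.C (t ^ E) * g - ∑ i, K i * MvPolynomial.pderiv i g)) = 0 := by
      show im _ = 0
      rw [map_sub, map_mul, hC, map_pow, map_sum, sub_eq_zero, hdec g, h0, zero_add, Finset.mul_sum]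
      refine Finset.sum_congr rfl fun i _ => ?_
      rw [map_mul, hK, mul_assoc]
    obtain ⟨⟨_, f, rfl⟩, hf⟩ := (IsLocalization.map_eq_zero_iff (Submonoid.powers tS) St _).1 h1
    refine ⟨f, Ideal.Quotient.eq_zero_iff_mem.1 ?_⟩
    rw [map_mul, ← MvPolynomial.algebraMap_eq, map_pow]
    exact hf
  obtain ⟨G, hG⟩ := hfg
  choose f hf using fun g : G => hg g.1 (hG.le (Ideal.subset_span g.2))
  let F := ∑ g, f g
  refine ⟨F + E, fun i => MvPolynomial.C (t ^ F) * K i,
    fun i => Ideal.mul_mem_left _ _ (Ideal.mul_mem_left _ _ (hk i)), fun g hgI => ?_⟩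
  have key : ∀ g, MvPolynomial.C (t ^ (F + E)) * g - ∑ i, MvPolynomial.C (t ^ F) * K i * MvPolynomial.pderiv i g =
      MvPolynomial.C (t ^ F) * (MvPolynomial.C (t ^ E) * g - ∑ i, K i * MvPolynomial.pderiv i g) := fun g => by
    rw [pow_add, map_mul, mul_sub, Finset.mul_sum]
    simp only [mul_assoc]
  rw [← hG] at hgI
  induction hgI using Submodule.span_induction with
  | mem x hx =>
    rw [key, show t ^ F = t ^ (F - f ⟨x, hx⟩) * t ^ f ⟨x, hx⟩ by
      rw [← pow_add, Nat.sub_add_cancel (Finset.single_le_sum (by simp) (Finset.mem_univ _))],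
      map_mul, mul_assoc]
    exact Ideal.mul_mem_left _ _ (hf ⟨x, hx⟩)
  | zero => simp
  | add x y _ _ hx hy =>
    rw [mul_add]
    simp only [map_add, mul_add, Finset.sum_add_distrib]
    rw [add_sub_add_comm]
    exact add_mem hx hy
  | smul a x hxm hx =>
    have hxI : x ∈ I := hG.le hxm
    have h4 : MvPolynomial.C (t ^ (F + E)) * (a • x) -
        ∑ i, MvPolynomial.C (t ^ F) * K i * MvPolynomial.pderiv i (a • x) =
        a * (MvPolynomial.C (t ^ (F + E)) * x - ∑ i, MvPolynomial.C (t ^ F) * K i * MvPolynomial.pderiv i x) -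
          ∑ i, MvPolynomial.C (t ^ F) * K i * (MvPolynomial.pderiv i a * x) := by
      rw [mul_sub, Finset.mul_sum, sub_sub, ← Finset.sum_add_distrib, smul_eq_mul]
      congr 1
      · ring
      · refine Finset.sum_congr rfl fun i _ => ?_
        rw [MvPolynomial.pderiv_mul]; ring
    rw [h4]
    refine sub_mem (Ideal.mul_mem_left _ _ hx) (Ideal.sum_mem _ fun i _ => ?_)
    rw [sq]
    exact Ideal.mul_mem_mul (Ideal.mul_mem_left _ _ (Ideal.mul_mem_left _ _ (hk i)))
      (Ideal.mul_mem_left _ _ hxI)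

/-- For rigid `B₀`, sections of `B → B₀` exist modulo every power of `t`. -/
theorem exists_section {k B B₀ : Type u} [CommRing k] [CommRing B] [CommRing B₀] [Algebra k B] [Algebra k B₀]
    (hrigid : Subsingleton (CotT.T1 (CotT.canon k B₀) B₀)) (t : B) (hreg : ∀ r, t * r = 0 → r = 0)
    (π : B →ₐ[k] B₀) (hπs : Function.Surjective π) (hker : RingHom.ker π = Ideal.span {t}) :
    ∀ j, 1 ≤ j → ∃ s : B₀ →ₐ[k] B ⧸ Ideal.span {t ^ j}, ∀ c r, Ideal.Quotient.mk _ r = s c → π r = c := by
  have hπt : π t = 0 := RingHom.mem_ker.1 (hker ▸ Ideal.mem_span_singleton_self t)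
  intro j hj
  induction j, hj using Nat.le_induction with
  | base =>
    refine ⟨AlgHom.liftOfSurjective π hπs (Ideal.Quotient.mkₐ k _) (fun x hx => ?_), fun c r hr => ?_⟩
    · show Ideal.Quotient.mk _ x = 0
      rw [Ideal.Quotient.eq_zero_iff_mem, pow_one]
      exact hker ▸ hx
    · obtain ⟨c, rfl⟩ := hπs c
      erw [AlgHom.liftOfSurjective_apply] at hr
      rw [← sub_eq_zero, ← map_sub]
      refine RingHom.mem_ker.1 (hker ▸ ?_)
      simpa [pow_one] using Ideal.Quotient.eq.1 hr
  | succ j hj ih =>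
    obtain ⟨s, hs⟩ := ih
    let q : B ⧸ Ideal.span {t ^ (j + 1)} →ₐ[k] B ⧸ Ideal.span {t ^ j} :=
      Ideal.Quotient.factorₐ k (Ideal.span_singleton_le_span_singleton.2 (pow_dvd_pow t (Nat.le_succ j)))
    have hq : ∀ r, q (Ideal.Quotient.mk _ r) = Ideal.Quotient.mk _ r := fun r => rfl
    let E := AlgHom.equalizer (q.comp (AlgHom.fst k _ B₀)) (s.comp (AlgHom.snd k _ B₀))
    let g : B₀ → B := Function.surjInv hπs
    have hg : ∀ b, π (g b) = b := Function.surjInv_eq hπs
    have hwd : ∀ r r', π r = π r' →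
        Ideal.Quotient.mk (Ideal.span {t ^ (j + 1)}) (t ^ j * r) = Ideal.Quotient.mk _ (t ^ j * r') := fun r r' h => by
      rw [Ideal.Quotient.eq, Ideal.mem_span_singleton, ← mul_sub, pow_succ]
      exact mul_dvd_mul_left _ (Ideal.mem_span_singleton.1 (hker ▸ RingHom.mem_ker.2 (by rw [map_sub, h, sub_self])))
    let incl : B₀ →+ E :=
      AddMonoidHom.mk' (fun b => ⟨(Ideal.Quotient.mk _ (t ^ j * g b), 0), by
        show q (Ideal.Quotient.mk _ _) = s 0
        rw [map_zero, hq, Ideal.Quotient.eq_zero_iff_mem]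
        exact Ideal.mem_span_singleton.2 (dvd_mul_right _ _)⟩) fun a b => Subtype.ext (Prod.ext (by
          show Ideal.Quotient.mk _ (t ^ j * g (a + b)) = Ideal.Quotient.mk _ (t ^ j * g a) + Ideal.Quotient.mk _ (t ^ j * g b)
          rw [← map_add, ← mul_add]
          exact hwd _ _ (by rw [map_add, hg, hg, hg])) (add_zero 0).symm)
    let p : E →ₐ[k] B₀ := (AlgHom.snd k _ B₀).comp E.val
    have hext : Exal.IsExtension p incl := by
      refine ⟨fun b => ?_, (injective_iff_map_eq_zero _).2 fun b hb => ?_, fun x => ⟨fun hx => ?_, ?_⟩, fun x z => ?_⟩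
      · obtain ⟨a, ha⟩ := Ideal.Quotient.mk_surjective (s b)
        exact ⟨⟨(Ideal.Quotient.mk _ a, b), (AlgHom.mem_equalizer _ _ _).2 (by show q (Ideal.Quotient.mk _ a) = s b; rw [hq, ha])⟩, rfl⟩
      · have h : Ideal.Quotient.mk (Ideal.span {t ^ (j + 1)}) (t ^ j * g b) = 0 := congrArg (fun e : E => e.1.1) hb
        rw [Ideal.Quotient.eq_zero_iff_mem, Ideal.mem_span_singleton, pow_succ] at h
        obtain ⟨w, hw⟩ := h
        have hcancel : ∀ n r, t ^ n * r = 0 → r = 0 := fun n => by
          induction n with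
          | zero => exact fun r h => by simpa using h
          | succ n ihn => exact fun r h => ihn r (hreg _ (by rw [← mul_assoc, ← pow_succ']; exact h))
        rw [← hg b, sub_eq_zero.1 (hcancel j (g b - t * w) (by linear_combination hw)), map_mul, hπt, zero_mul]
      · obtain ⟨a, ha⟩ := Ideal.Quotient.mk_surjective x.1.1
        have h1 : q x.1.1 = s x.1.2 := x.2
        rw [show x.1.2 = 0 from hx, map_zero, ← ha, hq, Ideal.Quotient.eq_zero_iff_mem, Ideal.mem_span_singleton] at h1
        obtain ⟨r, rfl⟩ := h1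
        refine ⟨π r, Subtype.ext (Prod.ext ?_ ?_)⟩
        · show Ideal.Quotient.mk _ (t ^ j * g (π r)) = _
          rw [← ha]
          exact hwd _ _ (hg _)
        · exact hx.symm
      · rintro ⟨b, rfl⟩; rfl
      · obtain ⟨a, ha⟩ := Ideal.Quotient.mk_surjective x.1.1
        have h1 : π a = x.1.2 := hs _ _ (by rw [← hq, ha]; exact x.2)
        refine Subtype.ext (Prod.ext ?_ (mul_zero _))
        show x.1.1 * Ideal.Quotient.mk _ (t ^ j * g z) = Ideal.Quotient.mk _ (t ^ j * g (p x • z))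
        rw [← ha, ← map_mul, mul_left_comm]
        refine hwd _ _ ?_
        rw [map_mul, hg, hg, h1]
        rfl
    obtain ⟨σ, hσ⟩ := (GrothLib.CotT.forall_isTrivial_iff_subsingleton_T1 (CotT.canon k B₀)).2 hrigid
      { E := E, proj := p, incl := incl, isExtension := hext }
    refine ⟨(AlgHom.fst k _ B₀).comp (E.val.comp σ), fun c r hr => hs c r ?_⟩
    have h1 : q (σ c).1.1 = s (σ c).1.2 := (σ c).2
    rw [show (σ c).1.2 = c from hσ c] at h1
    rw [← h1, ← hq]
    exact congrArg q hr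

/-- A formally smooth general fibre forces a rigid special fibre to be formally smooth. -/
theorem formallySmooth_of_rigid {k A B B₀ : Type u} [Field k] [CommRing A] [CommRing B] [CommRing B₀]
    [Algebra k A] [Algebra k B] [Algebra A B] [IsScalarTower k A B] [Algebra k B₀]
    [Algebra.FiniteType k B₀] [Algebra.FinitePresentation A B] (t : A)
    (hregA : ∀ r, t * r = 0 → r = 0) (hregB : ∀ r : B, algebraMap A B t * r = 0 → r = 0)
    (πA : A →ₐ[k] k) (hkerA : RingHom.ker πA = Ideal.span {t})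
    (π : B →ₐ[k] B₀) (hπs : Function.Surjective π) (hker : RingHom.ker π = Ideal.span {algebraMap A B t})
    (hrigid : Subsingleton (CotT.T1 (CotT.canon k B₀) B₀))
    (hsm : Algebra.FormallySmooth A (Localization.Away (algebraMap A B t))) :
    Algebra.FormallySmooth k B₀ := by
  classical
  obtain ⟨m, φ, hφ, hfg⟩ := ‹Algebra.FinitePresentation A B›.out
  obtain ⟨N, K, hK, hkey⟩ := exists_scaling φ hφ hfg t hsm
  set tB := algebraMap A B t
  obtain ⟨s, hs⟩ := exists_section hrigid tB hregB π hπs hker (N + 1) (by omega)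
  have hπt : π tB = 0 := RingHom.mem_ker.1 (hker ▸ Ideal.mem_span_singleton_self _)
  have hπAt : πA t = 0 := RingHom.mem_ker.1 (hkerA ▸ Ideal.mem_span_singleton_self _)
  obtain ⟨ΘB, hΘBC, hΘBX⟩ := exists_equiv tB hregB (N + 1) π (fun r h => hker ▸ h) hπt s hs
  obtain ⟨ΘA, hΘAC, hΘAX⟩ := exists_equiv t hregA (N + 1) πA (fun r h => hkerA ▸ h) hπAt
    (Algebra.ofId k (A ⧸ Ideal.span {t ^ (N + 1)})) (fun c r hr => by
      have h1 : r - algebraMap k A c ∈ Ideal.span {t ^ (N + 1)} := Ideal.Quotient.eq.1 hr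
      obtain ⟨w, hw⟩ := Ideal.mem_span_singleton.1 h1
      rw [show r = algebraMap k A c + t ^ (N + 1) * w by linear_combination hw, map_add, map_mul, map_pow,
        hπAt, zero_pow (by omega), zero_mul, add_zero, AlgHom.commutes]
      rfl)
  have hincl : Ideal.span {t ^ (N + 1)} ≤ (Ideal.span {tB ^ (N + 1)}).comap (algebraMap A B) := by
    rw [Ideal.span_le, Set.singleton_subset_iff, SetLike.mem_coe, Ideal.mem_comap, map_pow]
    exact Ideal.mem_span_singleton_self _
  refine Algebra.FormallySmooth.of_comp_surjective fun E _ _ I hI f => ?_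
  let fB : B →+* T (N + 1) (E ⧸ I) :=
    (tMap f.toRingHom).comp (ΘB.symm.toRingHom.comp (Ideal.Quotient.mk _))
  let α : A →+* T (N + 1) E :=
    (tMap (algebraMap k E)).comp (ΘA.symm.toRingHom.comp (Ideal.Quotient.mk _))
  let red : T (N + 1) E →+* T (N + 1) (E ⧸ I) := tMap (Ideal.Quotient.mk I)
  have hcompat : ∀ a, red (α a) = fB (algebraMap A B a) := by
    have h : (red.comp (tMap (algebraMap k E))).comp ΘA.symm.toRingHom =
        ((tMap f.toRingHom).comp ΘB.symm.toRingHom).comp (Ideal.quotientMap _ (algebraMap A B) hincl) := by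
      have h' : red.comp (tMap (algebraMap k E)) =
          (((tMap f.toRingHom).comp ΘB.symm.toRingHom).comp (Ideal.quotientMap _ (algebraMap A B) hincl)).comp
            ΘA.toRingHom := by
        refine Ideal.Quotient.ringHom_ext (Polynomial.ringHom_ext (fun c => ?_) ?_)
        · show red (tMap _ (Ideal.Quotient.mk _ (Polynomial.C c))) =
            tMap f.toRingHom (ΘB.symm (Ideal.quotientMap _ (algebraMap A B) hincl
              (ΘA (Ideal.Quotient.mk _ (Polynomial.C c)))))
          rw [hΘAC, show (Algebra.ofId k (A ⧸ Ideal.span {t ^ (N + 1)})) c = Ideal.Quotient.mk _ (algebraMap k A c)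
            from rfl, Ideal.quotientMap_mk, ← IsScalarTower.algebraMap_apply,
            show Ideal.Quotient.mk (Ideal.span {tB ^ (N + 1)}) (algebraMap k B c) = s (algebraMap k B₀ c)
              from (s.commutes c).symm, ← hΘBC, RingEquiv.symm_apply_apply, tMap_mk, tMap_mk, tMap_mk,
            Polynomial.map_C, Polynomial.map_C, Polynomial.map_C]
          exact congrArg (fun e => Ideal.Quotient.mk _ (Polynomial.C e)) (f.commutes c).symm
        · show red (tMap _ (Ideal.Quotient.mk _ Polynomial.X)) =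
            tMap f.toRingHom (ΘB.symm (Ideal.quotientMap _ (algebraMap A B) hincl
              (ΘA (Ideal.Quotient.mk _ Polynomial.X))))
          rw [hΘAX, Ideal.quotientMap_mk, ← hΘBX, RingEquiv.symm_apply_apply, tMap_mk, tMap_mk, tMap_mk,
            Polynomial.map_X, Polynomial.map_X, Polynomial.map_X]
      rw [h']
      exact RingHom.ext fun z => by simp
    exact fun a => RingHom.congr_fun h (Ideal.Quotient.mk _ a)
  choose w hw using fun i => tMap_surjective (n := N + 1) (Ideal.Quotient.mk I) Ideal.Quotient.mk_surjective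
    (fB (φ (MvPolynomial.X i)))
  let ψ : MvPolynomial (Fin m) A →+* T (N + 1) E := MvPolynomial.eval₂Hom α w
  have hψ : red.comp ψ = fB.comp φ.toRingHom := by
    refine MvPolynomial.ringHom_ext (fun a => ?_) fun i => ?_
    · show red (ψ (MvPolynomial.C a)) = fB (φ (MvPolynomial.C a))
      rw [show ψ (MvPolynomial.C a) = α a from MvPolynomial.eval₂_C _ _ _, hcompat,
        ← MvPolynomial.algebraMap_eq, AlgHom.commutes]
    · show red (ψ (MvPolynomial.X i)) = _
      rw [show ψ (MvPolynomial.X i) = w i from MvPolynomial.eval₂_X _ _ _]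
      exact hw i
  have hJ2 : ∀ a b, red a = 0 → red b = 0 → a * b = 0 := fun a b ha hb => by
    obtain ⟨p, rfl, hp⟩ := exists_rep_of_tMap_eq_zero _ a ha
    obtain ⟨p', rfl, hp'⟩ := exists_rep_of_tMap_eq_zero _ b hb
    have h : p * p' ∈ (I ^ 2).map (Polynomial.C : E →+* Polynomial E) := by
      rw [Ideal.map_pow, sq]
      exact Ideal.mul_mem_mul
        (by rw [← Ideal.mk_ker (I := I), ← Polynomial.ker_mapRingHom]; exact hp)
        (by rw [← Ideal.mk_ker (I := I), ← Polynomial.ker_mapRingHom]; exact hp')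
    rw [hI, Ideal.map_bot, Ideal.mem_bot] at h
    rw [← map_mul, h, map_zero]
  have hψI : ∀ g ∈ RingHom.ker φ, red (ψ g) = 0 := fun g hg => by
    rw [← RingHom.comp_apply, hψ]
    show fB (φ g) = 0
    rw [RingHom.mem_ker.1 hg, map_zero]
  have hψI2 : ∀ g ∈ RingHom.ker φ ^ 2, ψ g = 0 := fun g hg => by
    rw [sq] at hg
    refine Submodule.mul_induction_on hg (fun a ha b hb => ?_) fun a b ha hb => by rw [map_add, ha, hb, add_zero]
    rw [map_mul, hJ2 _ _ (hψI a ha) (hψI b hb)]
  let D : MvPolynomial (Fin m) A → T (N + 1) E :=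
    fun p => ∑ i, ψ (K i) * ψ (MvPolynomial.pderiv i p)
  have hDadd : ∀ p q, D (p + q) = D p + D q := fun p q => by
    simp only [D, map_add, mul_add, Finset.sum_add_distrib]
  have hDmul : ∀ p q, D (p * q) = ψ p * D q + ψ q * D p := fun p q => by
    simp only [D, MvPolynomial.pderiv_mul, map_add, map_mul, mul_add, Finset.sum_add_distrib, Finset.mul_sum]
    refine (add_comm _ _).trans ?_
    congr 1 <;> exact Finset.sum_congr rfl fun i _ => by ring
  have hDC : ∀ a, D (MvPolynomial.C a) = 0 := fun a => by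
    simp only [D, MvPolynomial.pderiv_C, map_zero, mul_zero, Finset.sum_const_zero]
  have hDred : ∀ p, red (D p) = 0 := fun p => by
    simp only [D, map_sum, map_mul, hψI _ (hK _), zero_mul, Finset.sum_const_zero]
  let τ₀ : T (N + 1) E := Ideal.Quotient.mk _ Polynomial.X
  have hτn : τ₀ ^ (N + 1) = 0 := by
    rw [← map_pow, Ideal.Quotient.eq_zero_iff_mem]
    exact Ideal.mem_span_singleton_self _
  have hαt : α t = τ₀ := by
    show tMap _ (ΘA.symm (Ideal.Quotient.mk _ t)) = _
    rw [← hΘAX, RingEquiv.symm_apply_apply, tMap_mk, Polynomial.map_X]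
  have hDI : ∀ g ∈ RingHom.ker φ, D g = τ₀ ^ N * ψ g := fun g hg => by
    have h := hψI2 _ (hkey g hg)
    rw [map_sub, map_mul, map_sum, show ψ (MvPolynomial.C (t ^ N)) = α (t ^ N) from MvPolynomial.eval₂_C _ _ _,
      map_pow, hαt, sub_eq_zero] at h
    simp only [map_mul] at h
    exact h.symm
  -- a presentation of `B₀`
  obtain ⟨n₀, χ, hχ⟩ := Algebra.FiniteType.iff_quotient_mvPolynomial''.mp ‹Algebra.FiniteType k B₀›
  choose e₀ he₀ using fun j => Ideal.Quotient.mk_surjective (f (χ (MvPolynomial.X j)))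
  let ψ₀ : MvPolynomial (Fin n₀) k →ₐ[k] E := MvPolynomial.aeval e₀
  have hψ₀ : ∀ q, Ideal.Quotient.mk I (ψ₀ q) = f (χ q) := fun q =>
    AlgHom.congr_fun (show (Ideal.Quotient.mkₐ k I).comp ψ₀ = f.comp χ from
      MvPolynomial.algHom_ext fun j => by
        show Ideal.Quotient.mk I (ψ₀ (MvPolynomial.X j)) = _
        rw [show ψ₀ (MvPolynomial.X j) = e₀ j from MvPolynomial.aeval_X _ _]
        exact he₀ j) q
  choose b hb using fun j => Ideal.Quotient.mk_surjective (s (χ (MvPolynomial.X j)))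
  choose pj hpj using fun j => hφ (b j)
  let τ : MvPolynomial (Fin n₀) k →+* MvPolynomial (Fin m) A :=
    MvPolynomial.eval₂Hom (MvPolynomial.C.comp (algebraMap k A)) pj
  have hτ : ∀ q, Ideal.Quotient.mk (Ideal.span {tB ^ (N + 1)}) (φ (τ q)) = s (χ q) := fun q =>
    RingHom.congr_fun (show (Ideal.Quotient.mk _).comp (φ.toRingHom.comp τ) = s.toRingHom.comp χ.toRingHom from
      MvPolynomial.ringHom_ext (fun c => by
        show Ideal.Quotient.mk _ (φ (τ (MvPolynomial.C c))) = s (χ (MvPolynomial.C c))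
        rw [show τ (MvPolynomial.C c) = MvPolynomial.C (algebraMap k A c) from MvPolynomial.eval₂_C _ _ _,
          ← MvPolynomial.algebraMap_eq, AlgHom.commutes, ← IsScalarTower.algebraMap_apply,
          ← MvPolynomial.algebraMap_eq, AlgHom.commutes, AlgHom.commutes]
        rfl) fun j => by
        show Ideal.Quotient.mk _ (φ (τ (MvPolynomial.X j))) = _
        rw [show τ (MvPolynomial.X j) = pj j from MvPolynomial.eval₂_X _ _ _, hpj, hb]
        rfl) q
  let c₀ : E →+* T (N + 1) E := (Ideal.Quotient.mk _).comp Polynomial.C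
  let δ : MvPolynomial (Fin n₀) k → T (N + 1) E := fun q => ψ (τ q) - c₀ (ψ₀ q)
  have hδred : ∀ q, red (δ q) = 0 := fun q => by
    show red (ψ (τ q) - c₀ (ψ₀ q)) = 0
    rw [map_sub, sub_eq_zero, ← RingHom.comp_apply red ψ, hψ]
    show fB (φ (τ q)) = tMap _ (Ideal.Quotient.mk _ (Polynomial.C (ψ₀ q)))
    rw [tMap_mk, Polynomial.map_C, hψ₀]
    show tMap f.toRingHom (ΘB.symm (Ideal.Quotient.mk _ (φ (τ q)))) = _
    rw [hτ, ← hΘBC, RingEquiv.symm_apply_apply, tMap_mk, Polynomial.map_C]
    rfl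
  let L := tCoeff E N (Nat.lt_succ_self N) (n := N + 1)
  let D₁ : MvPolynomial (Fin n₀) k → E := fun q => L (D (τ q) - τ₀ ^ N * δ q)
  have hD₁add : ∀ p q, D₁ (p + q) = D₁ p + D₁ q := fun p q => by
    show L _ = L _ + L _
    rw [← map_add]
    congr 1
    simp only [δ, map_add, hDadd]
    ring
  have hD₁C : ∀ c, D₁ (MvPolynomial.C c) = 0 := fun c => by
    have h1 : τ (MvPolynomial.C c) = MvPolynomial.C (algebraMap k A c) := MvPolynomial.eval₂_C _ _ _
    have h2 : δ (MvPolynomial.C c) = 0 := by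
      show ψ (τ _) - c₀ _ = 0
      rw [h1, show ψ (MvPolynomial.C (algebraMap k A c)) = α (algebraMap k A c) from MvPolynomial.eval₂_C _ _ _,
        sub_eq_zero]
      show tMap _ (ΘA.symm (Ideal.Quotient.mk _ (algebraMap k A c))) = _
      rw [show Ideal.Quotient.mk (Ideal.span {t ^ (N + 1)}) (algebraMap k A c) =
        (Algebra.ofId k (A ⧸ Ideal.span {t ^ (N + 1)})) c from rfl, ← hΘAC, RingEquiv.symm_apply_apply,
        tMap_mk, Polynomial.map_C, ← MvPolynomial.algebraMap_eq, AlgHom.commutes]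
      rfl
    show L _ = 0
    rw [h1, hDC, h2, mul_zero, sub_zero, map_zero]
  have hLI : ∀ z, red z = 0 → L z ∈ I := fun z hz => by
    obtain ⟨p, rfl, hp⟩ := exists_rep_of_tMap_eq_zero _ z hz
    rw [show L (Ideal.Quotient.mk _ p) = p.coeff N from rfl, ← Ideal.Quotient.eq_zero_iff_mem,
      ← Polynomial.coeff_map, hp, Polynomial.coeff_zero]
  have hD₁I : ∀ q, D₁ q ∈ I := fun q => hLI _ (by
    rw [map_sub, map_mul, hDred, hδred, mul_zero, sub_zero])
  have hD₁mul : ∀ p q, D₁ (p * q) = ψ₀ p * D₁ q + ψ₀ q * D₁ p := fun p q => by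
    show L _ = _ * L _ + _ * L _
    rw [← tCoeff_C_mul, ← tCoeff_C_mul, ← map_add]
    congr 1
    show _ = c₀ (ψ₀ p) * _ + c₀ (ψ₀ q) * _
    simp only [δ, map_mul, hDmul]
    have e1 : (ψ (τ p) - c₀ (ψ₀ p)) * D (τ q) = 0 := hJ2 _ _ (hδred p) (hDred _)
    have e2 : (ψ (τ q) - c₀ (ψ₀ q)) * D (τ p) = 0 := hJ2 _ _ (hδred q) (hDred _)
    have e3 : (ψ (τ p) - c₀ (ψ₀ p)) * (ψ (τ q) - c₀ (ψ₀ q)) = 0 := hJ2 _ _ (hδred p) (hδred q)
    linear_combination e1 + e2 - τ₀ ^ N * e3
  have hker₀ : ∀ g, χ g = 0 → ψ₀ g = D₁ g := fun g hg => by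
    have h1 : φ (τ g) ∈ Ideal.span {tB ^ (N + 1)} := by
      rw [← Ideal.Quotient.eq_zero_iff_mem, hτ, hg, map_zero]
    obtain ⟨r, hr⟩ := Ideal.mem_span_singleton.1 h1
    obtain ⟨p, rfl⟩ := hφ r
    have hi : τ g - MvPolynomial.C (t ^ (N + 1)) * p ∈ RingHom.ker φ := by
      rw [RingHom.mem_ker, map_sub, map_mul, ← MvPolynomial.algebraMap_eq, AlgHom.commutes, map_pow, hr, sub_self]
    have hC : ψ (MvPolynomial.C (t ^ (N + 1))) = 0 := by
      rw [show ψ (MvPolynomial.C (t ^ (N + 1))) = α (t ^ (N + 1)) from MvPolynomial.eval₂_C _ _ _, map_pow, hαt, hτn]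
    have h2 := hDI _ hi
    have h3 : D (τ g) = D (τ g - MvPolynomial.C (t ^ (N + 1)) * p) := by
      have h := hDadd (τ g - MvPolynomial.C (t ^ (N + 1)) * p) (MvPolynomial.C (t ^ (N + 1)) * p)
      rw [sub_add_cancel, hDmul, hC, hDC, zero_mul, mul_zero, add_zero, add_zero] at h
      exact h
    rw [map_sub, map_mul, hC, zero_mul, sub_zero, ← h3] at h2
    show _ = L _
    rw [h2, ← mul_sub, show ψ (τ g) - δ g = c₀ (ψ₀ g) from sub_sub_cancel _ _]
    exact (tCoeff_X_pow_mul_C N (Nat.lt_succ_self N) _).symm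
  let ψ₁ : MvPolynomial (Fin n₀) k →ₐ[k] E :=
    { toFun := fun q => ψ₀ q - D₁ q
      map_one' := by rw [← map_one (MvPolynomial.C), hD₁C, sub_zero, map_one, map_one]
      map_zero' := by rw [← map_zero (MvPolynomial.C), hD₁C, sub_zero, map_zero, map_zero]
      map_add' := fun p q => by rw [map_add, hD₁add]; ring
      map_mul' := fun p q => by
        have e : D₁ p * D₁ q = 0 := by
          have := Ideal.mul_mem_mul (hD₁I p) (hD₁I q)
          rwa [← sq, hI, Ideal.mem_bot] at this
        rw [map_mul, hD₁mul]; linear_combination -e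
      commutes' := fun c => by
        show ψ₀ (algebraMap k _ c) - D₁ (algebraMap k _ c) = _
        rw [AlgHom.commutes, MvPolynomial.algebraMap_eq, hD₁C, sub_zero] }
  refine ⟨AlgHom.liftOfSurjective χ hχ ψ₁ fun g hg => sub_eq_zero.2 (hker₀ g hg), AlgHom.ext fun x => ?_⟩
  obtain ⟨q, rfl⟩ := hχ x
  rw [AlgHom.comp_apply]
  erw [AlgHom.liftOfSurjective_apply]
  show Ideal.Quotient.mk I (ψ₀ q - D₁ q) = _
  rw [map_sub, Ideal.Quotient.eq_zero_iff_mem.2 (hD₁I q), sub_zero, hψ₀]

end GrothLib.Smoothing26
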