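import Mathlib

/-!
# Truncated polynomial rings and algebras with a section modulo a nonzerodivisor
-/

noncomputable section

universe u

namespace GrothLib.Smoothing26

open Polynomial

variable (n : ℕ)

/-- `R[τ]/(τ^n)`. -/
abbrev T (R : Type u) [CommRing R] : Type u := R[X] ⧸ Ideal.span {(X : R[X]) ^ n}

variable {n}

/-- Functoriality. -/
def tMap {R S : Type u} [CommRing R] [CommRing S] (f : R →+* S) : T n R →+* T n S :=
  Ideal.quotientMap _ (Polynomial.mapRingHom f) (by
    rw [Ideal.span_le, Set.singleton_subset_iff]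
    exact Ideal.mem_span_singleton.2 (by simp))

theorem tMap_mk {R S : Type u} [CommRing R] [CommRing S] (f : R →+* S) (p : R[X]) :
    tMap (n := n) f (Ideal.Quotient.mk _ p) = Ideal.Quotient.mk _ (p.map f) := rfl

theorem tMap_surjective {R S : Type u} [CommRing R] [CommRing S] (f : R →+* S)
    (hf : Function.Surjective f) : Function.Surjective (tMap (n := n) f) := fun z => by
  obtain ⟨q, rfl⟩ := Ideal.Quotient.mk_surjective z
  obtain ⟨p, rfl⟩ := Polynomial.map_surjective f hf q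
  exact ⟨Ideal.Quotient.mk _ p, rfl⟩

theorem exists_rep_of_tMap_eq_zero {R S : Type u} [CommRing R] [CommRing S] (f : R →+* S) (z : T n R)
    (hz : tMap f z = 0) : ∃ p : R[X], Ideal.Quotient.mk _ p = z ∧ p.map f = 0 := by
  obtain ⟨p, rfl⟩ := Ideal.Quotient.mk_surjective z
  rw [tMap_mk, Ideal.Quotient.eq_zero_iff_mem, Ideal.mem_span_singleton] at hz
  refine ⟨p %ₘ X ^ n, ?_, ?_⟩
  · rw [Ideal.Quotient.mk_eq_mk_iff_sub_mem, Ideal.mem_span_singleton]
    refine ⟨-(p /ₘ X ^ n), ?_⟩
    have h := Polynomial.modByMonic_add_div p (X ^ n)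
    linear_combination h
  · rw [Polynomial.map_modByMonic _ (monic_X_pow n), Polynomial.map_pow, map_X,
      Polynomial.modByMonic_eq_zero_iff_dvd (monic_X_pow n)]
    exact hz

/-- Coefficient extraction, for `N < n`. -/
def tCoeff (R : Type u) [CommRing R] (N : ℕ) (hN : N < n) : T n R →+ R :=
  QuotientAddGroup.lift (Ideal.span {(X : R[X]) ^ n}).toAddSubgroup (Polynomial.lcoeff R N).toAddMonoidHom
    fun p hp => by
      have h : p ∈ Ideal.span {(X : R[X]) ^ n} := hp
      rw [Ideal.mem_span_singleton, X_pow_dvd_iff] at h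
      exact h N hN

theorem tCoeff_mk {R : Type u} [CommRing R] (N : ℕ) (hN : N < n) (p : R[X]) :
    tCoeff R N hN (Ideal.Quotient.mk _ p) = p.coeff N := rfl

theorem tCoeff_C_mul {R : Type u} [CommRing R] (N : ℕ) (hN : N < n) (c : R) (z : T n R) :
    tCoeff R N hN (Ideal.Quotient.mk _ (C c) * z) = c * tCoeff R N hN z := by
  obtain ⟨p, rfl⟩ := Ideal.Quotient.mk_surjective z
  rw [← map_mul, tCoeff_mk, tCoeff_mk, coeff_C_mul]

theorem tCoeff_X_pow_mul_C {R : Type u} [CommRing R] (N : ℕ) (hN : N < n) (c : R) :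
    tCoeff R N hN (Ideal.Quotient.mk _ X ^ N * Ideal.Quotient.mk _ (C c)) = c := by
  rw [← map_pow, ← map_mul, tCoeff_mk, mul_comm, coeff_C_mul_X_pow, if_pos rfl]

section Section

variable {k R R₀ : Type u} [CommRing k] [CommRing R] [CommRing R₀] [Algebra k R] [Algebra k R₀]

theorem dvd_of_aeval_mem (t : R) (hreg : ∀ r, t * r = 0 → r = 0) (n : ℕ) (π : R →ₐ[k] R₀)
    (hπ : π t = 0) (s : R₀ →ₐ[k] R ⧸ Ideal.span {t ^ n})
    (hs : ∀ (c : R₀) (r : R), Ideal.Quotient.mk _ r = s c → π r = c) :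
    ∀ j ≤ n, ∀ p : R₀[X], ∀ r : R, p.eval₂ s.toRingHom (Ideal.Quotient.mk _ t) = Ideal.Quotient.mk _ r →
      r ∈ Ideal.span {t ^ j} → (X : R₀[X]) ^ j ∣ p := by
  intro j
  induction j with
  | zero => exact fun _ p r _ _ => by simp
  | succ j ih =>
    intro hj p r hr hrmem
    obtain ⟨c, hc⟩ := Ideal.Quotient.mk_surjective (s (p.coeff 0))
    obtain ⟨q, hq⟩ := Ideal.Quotient.mk_surjective (p.divX.eval₂ s.toRingHom (Ideal.Quotient.mk _ t))
    have h1 : Ideal.Quotient.mk (Ideal.span {t ^ n}) (c + t * q) = Ideal.Quotient.mk _ r := by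
      rw [← hr]
      conv_rhs => rw [← p.X_mul_divX_add]
      rw [eval₂_add, eval₂_mul, eval₂_X, eval₂_C, map_add, map_mul, hc, hq, add_comm]
      rfl
    rw [Ideal.Quotient.mk_eq_mk_iff_sub_mem, Ideal.mem_span_singleton] at h1
    obtain ⟨w, hw⟩ := h1
    obtain ⟨v, hv⟩ := Ideal.mem_span_singleton.1 hrmem
    obtain ⟨d, hd⟩ := Nat.exists_eq_add_of_le hj
    have hp0 : p.coeff 0 = 0 := by
      have : c = t * (t ^ j * v - q + t ^ (j + d) * w) := by
        subst hv; rw [hd] at hw; linear_combination hw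
      rw [← hs (p.coeff 0) c hc, this, map_mul, hπ, zero_mul]
    rw [hp0, map_zero, Ideal.Quotient.eq_zero_iff_mem, Ideal.mem_span_singleton] at hc
    obtain ⟨c', rfl⟩ := hc
    have hq2 : q = t ^ j * (v + t ^ d * w - t ^ d * c') := by
      refine sub_eq_zero.1 (hreg _ ?_)
      subst hv; rw [hd] at hw
      linear_combination hw
    have h2 := ih (by omega) p.divX q hq.symm (Ideal.mem_span_singleton.2 ⟨_, hq2⟩)
    rw [← p.X_mul_divX_add, hp0, map_zero, add_zero, pow_succ']
    exact mul_dvd_mul_left X h2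

/-- An algebra with a section modulo a power of a nonzerodivisor is a truncated polynomial ring. -/
theorem exists_equiv (t : R) (hreg : ∀ r, t * r = 0 → r = 0) (n : ℕ) (π : R →ₐ[k] R₀)
    (hker : ∀ r, π r = 0 → r ∈ Ideal.span {t}) (hπ : π t = 0)
    (s : R₀ →ₐ[k] R ⧸ Ideal.span {t ^ n})
    (hs : ∀ (c : R₀) (r : R), Ideal.Quotient.mk _ r = s c → π r = c) :
    ∃ Θ : T n R₀ ≃+* R ⧸ Ideal.span {t ^ n},
      (∀ c, Θ (Ideal.Quotient.mk _ (C c)) = s c) ∧
        Θ (Ideal.Quotient.mk _ X) = Ideal.Quotient.mk _ t := by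
  let φ : R₀[X] →+* R ⧸ Ideal.span {t ^ n} := Polynomial.eval₂RingHom s.toRingHom (Ideal.Quotient.mk _ t)
  have hker' : RingHom.ker φ = Ideal.span {(X : R₀[X]) ^ n} := by
    refine le_antisymm (fun p hp => Ideal.mem_span_singleton.2 ?_) ?_
    · exact dvd_of_aeval_mem t hreg n π hπ s hs n le_rfl p 0
        ((RingHom.mem_ker.1 hp).trans (map_zero _).symm) (zero_mem _)
    · rw [Ideal.span_le, Set.singleton_subset_iff]
      show φ (X ^ n) = 0
      rw [map_pow, show φ X = Ideal.Quotient.mk _ t from eval₂_X _ _, ← map_pow,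
        Ideal.Quotient.eq_zero_iff_mem]
      exact Ideal.mem_span_singleton_self _
  have hstep : ∀ j r, ∃ (p : R₀[X]) (r' : R),
      Ideal.Quotient.mk (Ideal.span {t ^ n}) r = φ p + Ideal.Quotient.mk _ t ^ j * Ideal.Quotient.mk _ r' := by
    intro j
    induction j with
    | zero => exact fun r => ⟨0, r, by simp⟩
    | succ j ih =>
      intro r
      obtain ⟨p, r', hr⟩ := ih r
      obtain ⟨c, hc⟩ := Ideal.Quotient.mk_surjective (s (π r'))
      obtain ⟨r'', hr''⟩ := Ideal.mem_span_singleton.1 (hker (r' - c) (by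
        rw [map_sub, hs _ _ hc, sub_self]))
      refine ⟨p + C (π r') * X ^ j, r'', ?_⟩
      rw [hr, show r' = c + t * r'' by linear_combination hr'', map_add, map_mul, map_add φ,
        map_mul φ, map_pow φ, show φ X = Ideal.Quotient.mk _ t from eval₂_X _ _,
        show φ (C (π (c + t * r''))) = s (π (c + t * r'')) from eval₂_C _ _,
        show π (c + t * r'') = π r' by rw [show c + t * r'' = r' by linear_combination -hr''], ← hc]
      ring
  have hsurj : Function.Surjective φ := fun z => by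
    obtain ⟨r, rfl⟩ := Ideal.Quotient.mk_surjective z
    obtain ⟨p, r', hr⟩ := hstep n r
    refine ⟨p, ?_⟩
    rw [hr, ← map_pow, Ideal.Quotient.eq_zero_iff_mem.2 (Ideal.mem_span_singleton_self _), zero_mul,
      add_zero]
  refine ⟨(Ideal.quotEquivOfEq hker'.symm).trans (RingHom.quotientKerEquivOfSurjective hsurj),
    fun c => ?_, ?_⟩
  · exact (eval₂_C _ _ : φ (C c) = s c)
  · exact (eval₂_X _ _ : φ X = _)

end Section

end GrothLib.Smoothing26
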